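/-
Schmidt's theorem on minimal non-nilpotent groups.
-/
import Mathlib
import Cfsg.Agent.Lib.CoprimeAction.Abelian
import Cfsg.Prelude.Def_SolvableStructure

set_option autoImplicit false

open scoped Pointwise commutatorElement

namespace CfsgLib.SolvableStructure

open CfsgLib.CoprimeAction

universe u

variable {G : Type u} [Group G]

theorem isNilpotent_subgroup_of_equiv {H : Type*} [Group H] {K : Type*} [Group K] (e : H ≃* K)
    (h : Group.IsNilpotent H) : Group.IsNilpotent K :=
  Group.nilpotent_of_mulEquiv e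

theorem sylow_normal_of_isNilpotent {H : Type*} [Group H] [Finite H] (h : Group.IsNilpotent H) (p : ℕ)
    [Fact p.Prime] (S : Sylow p H) : (S : Subgroup H).Normal := by
  have h1 : Group.IsNilpotent H ↔ ∀ (p : ℕ) (_hp : Fact p.Prime) (S : Sylow p H), (S : Subgroup H).Normal :=
    (Group.isNilpotent_of_finite_tfae (G := H)).out 0 3
  exact h1.mp h p inferInstance S

variable [Finite G]

/-- Elements of coprime order in a nilpotent subgroup commute. -/
theorem commute_of_isNilpotent {H : Subgroup G} (hH : Group.IsNilpotent H) {p q : ℕ}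
    [Fact p.Prime] [Fact q.Prime] (hpq : p ≠ q) {x y : G} (hx : x ∈ H) (hy : y ∈ H) {i j : ℕ}
    (hxo : orderOf x = p ^ i) (hyo : orderOf y = q ^ j) : x * y = y * x := by
  have hn := ((Group.isNilpotent_of_finite_tfae (G := H)).out 0 3).mp hH
  let x' : H := ⟨x, hx⟩
  let y' : H := ⟨y, hy⟩
  have hx' : IsPGroup p (Subgroup.zpowers x') :=
    IsPGroup.of_card (n := i) (by rw [Nat.card_zpowers, Subgroup.orderOf_mk, hxo])
  have hy' : IsPGroup q (Subgroup.zpowers y') :=
    IsPGroup.of_card (n := j) (by rw [Nat.card_zpowers, Subgroup.orderOf_mk, hyo])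
  obtain ⟨P, hP⟩ := hx'.exists_le_sylow
  obtain ⟨Q, hQ⟩ := hy'.exists_le_sylow
  exact congrArg Subtype.val (Subgroup.commute_of_normal_of_disjoint (P : Subgroup H) (Q : Subgroup H)
    (hn p inferInstance P) (hn q inferInstance Q)
    (IsPGroup.disjoint_of_ne p q hpq _ _ P.isPGroup' Q.isPGroup') x' y'
    (hP (Subgroup.mem_zpowers x')) (hQ (Subgroup.mem_zpowers y')))

/-- A finite group with all proper subgroups nilpotent is solvable. -/
theorem isSolvable_of_forall_isNilpotent
    (h : ∀ H : Subgroup G, H ≠ ⊤ → Group.IsNilpotent H) : Group.IsSolvable G := by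
  suffices ∀ (n : ℕ) (G : Type u) [Group G] [Finite G], Nat.card G = n →
      (∀ H : Subgroup G, H ≠ ⊤ → Group.IsNilpotent H) → Group.IsSolvable G from this _ G rfl h
  intro n
  induction n using Nat.strong_induction_on with
  | _ n ih =>
    intro G _ _ hn h
    classical
    by_cases hN : ∃ N : Subgroup G, N.Normal ∧ N ≠ ⊥ ∧ N ≠ ⊤
    · obtain ⟨N, hNn, hNb, hNt⟩ := hN
      haveI := hNn
      have hlt : Nat.card (G ⧸ N) < n := by
        rw [← hn, Subgroup.card_eq_card_quotient_mul_card_subgroup N]
        exact lt_mul_of_one_lt_right Nat.card_pos ((Subgroup.one_lt_card_iff_ne_bot N).mpr hNb)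
      haveI := h N hNt
      haveI : Group.IsSolvable (G ⧸ N) := ih _ hlt _ rfl fun H hH => by
        haveI := h (H.comap (QuotientGroup.mk' N)) fun he => hH (by
          rw [← Subgroup.map_comap_eq_self_of_surjective (QuotientGroup.mk'_surjective N) H, he,
            Subgroup.map_top_of_surjective _ (QuotientGroup.mk'_surjective N)])
        exact Group.nilpotent_of_surjective ((QuotientGroup.mk' N).subgroupComap H)
          ((QuotientGroup.mk' N).subgroupComap_surjective_of_surjective H (QuotientGroup.mk'_surjective N))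
      exact Group.isSolvable_of_ker_le_range N.subtype (QuotientGroup.mk' N)
        (by rw [QuotientGroup.ker_mk', N.range_subtype])
    push Not at hN
    by_contra hns
    have hnb : (⊤ : Subgroup G) ≠ ⊥ := fun h => hns (Group.isSolvable_of_top_eq_bot G h)
    -- every cyclic subgroup is proper
    have hcyc : ∀ x : G, Subgroup.zpowers x ≠ ⊤ := fun x hx => hns <|
      Group.isSolvable_of_comm fun a b => by
        obtain ⟨i, hi⟩ := Subgroup.mem_zpowers_iff.mp (hx ▸ Subgroup.mem_top a)
        obtain ⟨j, hj⟩ := Subgroup.mem_zpowers_iff.mp (hx ▸ Subgroup.mem_top b)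
        rw [← hi, ← hj]
        exact zpow_mul_comm x i j
    -- distinct maximal subgroups meet trivially
    have hTI : ∀ M L : Subgroup G, IsCoatom M → IsCoatom L → M ≠ L → M ⊓ L = ⊥ := by
      by_contra hcon
      push Not at hcon
      obtain ⟨D, ⟨M, L, hM, hL, hne, rfl, hD⟩, hDmax⟩ :
          ∃ D, Maximal (fun D : Subgroup G => ∃ M L, IsCoatom M ∧ IsCoatom L ∧ M ≠ L ∧
            M ⊓ L = D ∧ D ≠ ⊥) D := by
        obtain ⟨M, L, hM, hL, hne, hD⟩ := hcon
        exact Set.Finite.exists_maximal (Set.toFinite _) ⟨_, M, L, hM, hL, hne, rfl, hD⟩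
      let D := M ⊓ L
      have hnt : Subgroup.normalizer (D : Set G) ≠ ⊤ := fun he => by
        have := hN D (Subgroup.normalizer_eq_top_iff.mp he) hD
        exact hM.1 (top_le_iff.mp (this.ge.trans inf_le_left))
      obtain ⟨R, hR, hle⟩ := (eq_top_or_exists_le_coatom _).resolve_left hnt
      have hgt : ∀ X Y : Subgroup G, IsCoatom X → D = X ⊓ Y → X ≠ Y → IsCoatom Y →
          D < X ⊓ Subgroup.normalizer (D : Set G) := by
        intro X Y hX hDX hXY hY
        have hDX' : D ≤ X := hDX ▸ inf_le_left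
        haveI := h X hX.1
        have hlt : D.subgroupOf X < ⊤ := lt_top_iff_ne_top.mpr fun he => hXY <|
          (hX.le_iff_eq hY.1).mp ((Subgroup.subgroupOf_eq_top.mp he).trans (hDX ▸ inf_le_right)) |>.symm
        obtain ⟨u, hu, hu'⟩ :=
          SetLike.exists_of_lt (Group.normalizerCondition_of_isNilpotent _ hlt)
        refine lt_of_le_not_ge (le_inf hDX' Subgroup.le_normalizer) fun hge => hu' ?_
        refine hge ⟨u.2, mem_normalizer_of_conj_mem fun x hx => ?_⟩
        exact (Subgroup.mem_normalizer_iff.mp hu ⟨x, hDX' hx⟩).mp hx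
      have hMR : M = R := by
        by_contra hMR
        have h1 : M ⊓ L < M ⊓ R :=
          (hgt M L hM rfl hne hL).trans_le (inf_le_inf_left M hle)
        exact h1.not_ge (hDmax ⟨M, R, hM, hR, hMR, rfl, ne_bot_of_gt h1⟩ h1.le)
      have hLR : L = R := by
        by_contra hLR
        have h1 : M ⊓ L < L ⊓ R :=
          (hgt L M hL (inf_comm M L) hne.symm hM).trans_le (inf_le_inf_left L hle)
        exact h1.not_ge (hDmax ⟨L, R, hL, hR, hLR, rfl, ne_bot_of_gt h1⟩ h1.le)
      exact hne (hMR.trans hLR.symm)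
    -- count the nonidentity elements
    obtain ⟨M, hM, -⟩ := (eq_top_or_exists_le_coatom (⊥ : Subgroup G)).resolve_left hnb.symm
    have hne : ∀ M : Subgroup G, IsCoatom M → M ≠ ⊥ := by
      intro M hM hb
      obtain ⟨x, hx⟩ : ∃ x : G, x ≠ 1 := by
        by_contra hall
        push Not at hall
        exact hnb (eq_bot_iff.mpr fun x _ => Subgroup.mem_bot.mpr (hall x))
      exact hcyc x (hM.2 _ (hb ▸ bot_lt_iff_ne_bot.mpr (Subgroup.zpowers_ne_bot.mpr hx)))
    have hself : ∀ M : Subgroup G, IsCoatom M → Subgroup.normalizer (M : Set G) = M := by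
      intro M hM
      refine (hM.le_iff_eq fun he => ?_).mp Subgroup.le_normalizer
      exact hM.1 (hN M (Subgroup.normalizer_eq_top_iff.mp he) (hne M hM))
    let conjs : Subgroup G → Set G := fun M => {x | x ≠ 1 ∧ ∃ g : G, x ∈ MulAut.conj g • M}
    have hconjmax : ∀ M : Subgroup G, IsCoatom M → ∀ g : G, IsCoatom (MulAut.conj g • M) :=
      fun M hM g => (OrderIso.isCoatom_iff (MulEquiv.mapSubgroup (MulAut.conj g)) M).mpr hM
    have hcount : ∀ M : Subgroup G, IsCoatom M →
        (conjs M).ncard = (Nat.card M - 1) * M.index := by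
      intro M hM
      have : Fintype G := Fintype.ofFinite G
      let O := MulAction.orbit (ConjAct G) M
      have hO : Nat.card O = M.index := by
        rw [Nat.card_congr (MulAction.orbitEquivQuotientStabilizer (ConjAct G) M),
          ← Subgroup.index_eq_card]
        conv_rhs => rw [← hself M hM]
        rw [← Subgroup.index_map_equiv (Subgroup.normalizer (M : Set G)) ConjAct.toConjAct]
        congr 1
        ext x
        exact (conj_smul_eq_self (g := ConjAct.ofConjAct x) (H := M)).trans
          ⟨fun h => ⟨_, h, rfl⟩, fun ⟨y, hy, he⟩ => he ▸ hy⟩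
      let T : O → Set G := fun X => ((X : Subgroup G) : Set G) \ {1}
      have hU : conjs M = ⋃ X : O, T X := by
        ext x
        constructor
        · rintro ⟨hx1, g, hg⟩
          exact Set.mem_iUnion.mpr ⟨⟨_, ConjAct.toConjAct g, rfl⟩, hg, hx1⟩
        · intro hx
          obtain ⟨⟨_, g, rfl⟩, hxX, hx1⟩ := Set.mem_iUnion.mp hx
          exact ⟨hx1, ConjAct.ofConjAct g, hxX⟩
      have hdisj : Pairwise (Function.onFun Disjoint T) := by
        rintro ⟨_, a, rfl⟩ ⟨_, b, rfl⟩ hne'
        refine Set.disjoint_left.mpr fun x hx hx' => hx.2 ?_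
        have h1 : x ∈ (MulAut.conj (ConjAct.ofConjAct a) • M) ⊓ (MulAut.conj (ConjAct.ofConjAct b) • M) :=
          ⟨hx.1, hx'.1⟩
        rw [hTI _ _ (hconjmax M hM _) (hconjmax M hM _) fun he => hne' (Subtype.ext he)] at h1
        exact h1
      haveI : Fintype O := Fintype.ofFinite O
      rw [hU, Set.ncard_iUnion_of_finite (fun _ => Set.toFinite _) hdisj, finsum_eq_sum_of_fintype]
      rw [Finset.sum_congr rfl fun X _ => (?_ : (T X).ncard = Nat.card M - 1), Finset.sum_const,
        Finset.card_univ, smul_eq_mul, ← Nat.card_eq_fintype_card, hO, mul_comm]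
      obtain ⟨_, a, rfl⟩ := X
      show (((MulAut.conj (ConjAct.ofConjAct a) • M : Subgroup G) : Set G) \ {1}).ncard = _
      rw [Set.ncard_diff_singleton_of_mem (Subgroup.one_mem _), ← card_conj_smul (ConjAct.ofConjAct a) M]
      rfl
    have hbig : ∀ M : Subgroup G, IsCoatom M →
        Nat.card G ≤ 2 * (conjs M).ncard ∧ (conjs M).ncard + 1 < Nat.card G := by
      intro M hM
      have hMc : 2 ≤ Nat.card M := (Subgroup.one_lt_card_iff_ne_bot M).mpr (hne M hM)
      have hi : 2 ≤ M.index := Subgroup.one_lt_index_of_ne_top hM.1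
      rw [hcount M hM, ← M.card_mul_index]
      obtain ⟨c, hc⟩ := Nat.exists_eq_add_of_le hMc
      rw [hc, show 2 + c - 1 = 1 + c by omega]
      constructor <;> nlinarith
    obtain ⟨x, hx1, hxM⟩ : ∃ x : G, x ≠ 1 ∧ x ∉ conjs M := by
      by_contra hall
      push Not at hall
      have : ({1}ᶜ : Set G) ⊆ conjs M := fun x hx => hall x hx
      have h1 := Set.ncard_le_ncard this (Set.toFinite _)
      rw [Set.ncard_compl, Set.ncard_singleton] at h1
      have := (hbig M hM).2
      omega
    obtain ⟨L, hL, hxL⟩ := (eq_top_or_exists_le_coatom _).resolve_left (hcyc x)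
    have hd : Disjoint (conjs M) (conjs L) := by
      refine Set.disjoint_left.mpr ?_
      rintro y ⟨hy1, g, hg⟩ ⟨-, k, hk⟩
      refine hxM ⟨hx1, k⁻¹ * g, ?_⟩
      have heq : MulAut.conj g • M = MulAut.conj k • L := by
        by_contra hne'
        have h1 : y ∈ (MulAut.conj g • M) ⊓ (MulAut.conj k • L) := ⟨hg, hk⟩
        rw [hTI _ _ (hconjmax M hM g) (hconjmax L hL k) hne'] at h1
        exact hy1 h1
      rw [map_mul, map_inv, mul_smul, heq, inv_smul_smul]
      exact hxL (Subgroup.mem_zpowers x)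
    have h1 : conjs M ∪ conjs L ⊆ ({1}ᶜ : Set G) := by
      rintro y (hy | hy) <;> exact hy.1
    have h2 := Set.ncard_le_ncard h1 (Set.toFinite _)
    rw [Set.ncard_union_eq hd (Set.toFinite _) (Set.toFinite _), Set.ncard_compl,
      Set.ncard_singleton] at h2
    have := (hbig M hM).1
    have := (hbig L hL).1
    have := Nat.card_pos (α := G)
    omega

/-- **Schmidt.** Structure of minimal non-nilpotent groups. -/
theorem schmidt (hG : Cfsg.IsMinimalNonNilpotent G) : ∃ p q : ℕ, p.Prime ∧ q.Prime ∧ p ≠ q ∧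
    ∃ (P : Sylow p G) (Q : Sylow q G), IsCyclic P ∧ (Q : Subgroup G).Normal ∧
      (P : Subgroup G) ⊔ Q = ⊤ ∧ ¬ (P : Subgroup G) ≤ Subgroup.centralizer ((Q : Subgroup G) : Set G) := by
  haveI := isSolvable_of_forall_isNilpotent hG.2
  obtain ⟨hnn, hall⟩ := hG
  have htop : (⊤ : Subgroup G) ≠ ⊥ := fun h => hnn (by
    haveI : Subsingleton G := ⟨fun a b => by
      have ha : a ∈ (⊥ : Subgroup G) := h ▸ Subgroup.mem_top a
      have hb : b ∈ (⊥ : Subgroup G) := h ▸ Subgroup.mem_top b
      rw [Subgroup.mem_bot] at ha hb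
      rw [ha, hb]⟩
    infer_instance)
  -- a normal subgroup of prime index
  obtain ⟨M, hMm, hcM⟩ : ∃ M : Subgroup G, IsCoatom M ∧ commutator G ≤ M := by
    refine (eq_top_or_exists_le_coatom _).resolve_left ?_
    exact (Group.IsSolvable.commutator_lt_of_ne_bot htop).ne
  haveI hMn : M.Normal := Subgroup.Normal.of_commutator_le G hcM
  obtain ⟨p, hp, hidx⟩ : ∃ p, p.Prime ∧ M.index = p := by
    have hnt : 1 < M.index := Subgroup.one_lt_index_of_ne_top hMm.1
    haveI : Nontrivial (G ⧸ M) := Finite.one_lt_card_iff_nontrivial.mp hnt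
    haveI : IsSimpleGroup (G ⧸ M) := ⟨fun N hN => by
      have hle : M ≤ N.comap (QuotientGroup.mk' M) :=
        (QuotientGroup.ker_mk' M).ge.trans (MonoidHom.ker_le_comap _ _)
      rcases eq_or_lt_of_le hle with he | he
      · refine Or.inl ?_
        rw [← Subgroup.map_comap_eq_self_of_surjective (QuotientGroup.mk'_surjective M) N, ← he,
          QuotientGroup.map_mk'_self]
      · refine Or.inr ?_
        rw [← Subgroup.map_comap_eq_self_of_surjective (QuotientGroup.mk'_surjective M) N, hMm.2 _ he,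
          Subgroup.map_top_of_surjective _ (QuotientGroup.mk'_surjective M)]⟩
    letI : CommGroup (G ⧸ M) :=
      { (inferInstance : Group (G ⧸ M)) with
        mul_comm := fun a b => by
          induction a using QuotientGroup.induction_on with
          | H a =>
            induction b using QuotientGroup.induction_on with
            | H b =>
              rw [← QuotientGroup.mk_mul, ← QuotientGroup.mk_mul, QuotientGroup.eq]
              refine hcM ?_
              rw [show (a * b)⁻¹ * (b * a) = ⁅b⁻¹, a⁻¹⁆ by simp [commutatorElement_def, mul_assoc]]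
              exact Subgroup.commutator_mem_commutator (Subgroup.mem_top _) (Subgroup.mem_top _) }
    exact ⟨M.index, IsSimpleGroup.prime_card, rfl⟩
  haveI := Fact.mk hp
  -- Sylow subgroups for primes other than `p` are normal
  have hnorm : ∀ r : ℕ, ∀ [Fact r.Prime], r ≠ p → ∀ R : Sylow r G, (R : Subgroup G).Normal := by
    intro r _ hr R
    haveI := hall M hMm.1
    obtain ⟨S⟩ := (inferInstance : Nonempty (Sylow r M))
    have hSn : (S : Subgroup M).Normal := sylow_normal_of_isNilpotent (hall M hMm.1) r S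
    haveI := S.characteristic_of_normal hSn
    haveI hn : ((S : Subgroup M).map M.subtype).Normal := ConjAct.normal_of_characteristic_of_normal
    have hnd : ¬ r ∣ ((S : Subgroup M).map M.subtype).index := by
      rw [Subgroup.index_map_subtype, hidx]
      intro hd
      rcases (Fact.out : r.Prime).dvd_mul.mp hd with h | h
      · exact S.not_dvd_index h
      · exact hr ((Nat.prime_dvd_prime_iff_eq Fact.out hp).mp h)
    obtain ⟨g, hg⟩ := MulAction.exists_smul_eq G ((S.isPGroup'.map M.subtype).toSylow hnd) R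
    rw [← hg, Sylow.coe_subgroup_smul]
    exact Subgroup.Normal.map hn (MulAut.conj g).toMonoidHom (MulAut.conj g).surjective
  obtain ⟨P⟩ := (inferInstance : Nonempty (Sylow p G))
  -- some normal Sylow subgroup is not centralized by `P`
  obtain ⟨q, hqF, hqp, Q, hQ⟩ : ∃ q, ∃ _ : Fact q.Prime, q ≠ p ∧ ∃ Q : Sylow q G,
      ¬ (P : Subgroup G) ≤ Subgroup.centralizer ((Q : Subgroup G) : Set G) := by
    by_contra hcon
    push Not at hcon
    refine hnn (((Group.isNilpotent_of_finite_tfae (G := G)).out 3 0).mp fun r hr R => ?_)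
    haveI : Fact r.Prime := hr
    rcases eq_or_ne r p with rfl | hrp
    · obtain ⟨g, hg⟩ := MulAction.exists_smul_eq G P R
      suffices (P : Subgroup G).Normal by
        rw [← hg, Sylow.coe_subgroup_smul]
        exact Subgroup.Normal.map this (MulAut.conj g).toMonoidHom (MulAut.conj g).surjective
      rw [← Subgroup.normalizer_eq_top_iff]
      refine Subgroup.eq_top_of_card_eq _ (Nat.dvd_antisymm (Subgroup.card_subgroup_dvd_card _)
        ((Nat.dvd_iff_prime_pow_dvd_dvd _ _).mpr fun s k hs hsk => ?_))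
      haveI := Fact.mk hs
      obtain ⟨S⟩ := (inferInstance : Nonempty (Sylow s G))
      have hpd : s ^ k ∣ Nat.card S := S.card_eq_multiplicity ▸ Nat.pow_dvd_pow s
        ((hs.pow_dvd_iff_le_factorization Nat.card_pos.ne').mp hsk)
      rcases eq_or_ne s r with rfl | hsr
      · rw [S.card_eq_multiplicity, ← P.card_eq_multiplicity] at hpd
        exact hpd.trans (Subgroup.card_dvd_of_le Subgroup.le_normalizer)
      · refine hpd.trans (Subgroup.card_dvd_of_le ((Subgroup.le_centralizer_iff.mpr
          (hcon s ⟨hs⟩ hsr S)).trans (Subgroup.centralizer_le_normalizer _)))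
    · exact hnorm r hrp R
  haveI hQn := hnorm q hqp Q
  have hQN : (P : Subgroup G) ≤ Subgroup.normalizer ((Q : Subgroup G) : Set G) :=
    (Subgroup.normalizer_eq_top (H := (Q : Subgroup G))).symm ▸ le_top
  have hcomm : ∀ H : Subgroup G, H ≠ ⊤ → (Q : Subgroup G) ≤ H → ∀ x ∈ H,
      x ∈ (P : Subgroup G) → x ∈ Subgroup.centralizer ((Q : Subgroup G) : Set G) := by
    intro H hH hQH x hxH hxP
    refine Subgroup.mem_centralizer_iff.mpr fun y hy => ?_
    obtain ⟨i, hi⟩ := IsPGroup.iff_orderOf.mp P.isPGroup' ⟨x, hxP⟩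
    obtain ⟨j, hj⟩ := IsPGroup.iff_orderOf.mp Q.isPGroup' ⟨y, hy⟩
    rw [Subgroup.orderOf_mk] at hi hj
    exact (commute_of_isNilpotent (hall H hH) hqp.symm hxH (hQH hy) hi hj).symm
  have hPQ : (P : Subgroup G) ⊔ Q = ⊤ := by
    by_contra hne
    exact hQ fun x hx => hcomm _ hne le_sup_right x (le_sup_left (b := (Q : Subgroup G)) hx) hx
  refine ⟨p, q, hp, hqF.out, hqp.symm, P, Q, ?_, hQn, hPQ, hQ⟩
  by_contra hcyc
  refine hQ fun x hx => ?_
  refine hcomm (Subgroup.zpowers x ⊔ Q) (fun he => hcyc ?_) le_sup_right x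
    (le_sup_left (b := (Q : Subgroup G)) (Subgroup.mem_zpowers x)) hx
  suffices (P : Subgroup G) = Subgroup.zpowers x by
    rw [show IsCyclic P ↔ IsCyclic (Subgroup.zpowers x) by
      exact ⟨fun _ => inferInstance, fun _ => this ▸ (inferInstance : IsCyclic (Subgroup.zpowers x))⟩]
    infer_instance
  refine le_antisymm (fun y hy => ?_) (Subgroup.zpowers_le.mpr hx)
  have : y ∈ Subgroup.zpowers x ⊔ (Q : Subgroup G) := he ▸ Subgroup.mem_top y
  obtain ⟨a, ha, b, hb, rfl⟩ := Subgroup.mem_sup_of_normal_right.mp this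
  have hbP : b ∈ (P : Subgroup G) ⊓ Q :=
    ⟨(by simpa using Subgroup.mul_mem _ (Subgroup.inv_mem _ ((Subgroup.zpowers_le.mpr hx) ha)) hy : b ∈ (P : Subgroup G)), hb⟩
  rw [disjoint_iff.mp (IsPGroup.disjoint_of_ne p q hqp.symm _ _ P.isPGroup' Q.isPGroup'),
    Subgroup.mem_bot] at hbP
  simpa [hbP] using ha

end CfsgLib.SolvableStructure
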